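import Mathlib.Algebra.Polynomial.Taylor
import Mathlib.Algebra.Polynomial.Expand
import Mathlib.RingTheory.Polynomial.Wronskian
import Mathlib.FieldTheory.Perfect
import Mathlib.Algebra.CharP.Lemmas
import Mathlib.FieldTheory.IsAlgClosed.Basic
import Mathlib.Data.Nat.Factorial.BigOperators

/-!
# A partner polynomial with prescribed Wronskian
-/

set_option autoImplicit false

open Polynomial

namespace Groth.Misc6.PencilLimit

variable {k : Type*} [Field k] (p : ℕ) [Fact p.Prime] [CharP k p]

theorem derivative_expand_zero (q : k[X]) : derivative (expand k p q) = 0 := by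
  rw [derivative_expand, CharP.cast_eq_zero, zero_mul, mul_zero]

theorem derivative_mul_expand (M q : k[X]) :
    derivative (M * expand k p q) = derivative M * expand k p q := by
  rw [derivative_mul, derivative_expand_zero, mul_zero, add_zero]

theorem iterate_derivative_mul_expand (n : ℕ) (M q : k[X]) :
    derivative^[n] (M * expand k p q) = derivative^[n] M * expand k p q := by
  induction n generalizing M with
  | zero => rfl
  | succ n ih => rw [Function.iterate_succ_apply, Function.iterate_succ_apply, derivative_mul_expand, ih]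

theorem iterate_derivative_prime {R : Type*} [CommRing R] [CharP R p] (M : R[X]) : derivative^[p] M = 0 := by
  ext i
  rw [coeff_iterate_derivative, coeff_zero, nsmul_eq_mul]
  have h : p ∣ (i + p).descFactorial p :=
    (Nat.dvd_factorial (Fact.out : p.Prime).pos le_rfl).trans (Nat.factorial_dvd_descFactorial _ _)
  rw [(CharP.cast_eq_zero_iff R p _).2 h, zero_mul]

theorem exists_antiderivative {M : k[X]} (h : derivative^[p - 1] M = 0) : ∃ U : k[X], derivative U = M := by
  have hp : p.Prime := Fact.out
  refine ⟨∑ i ∈ M.support, C (M.coeff i / ((i + 1 : ℕ) : k)) * X ^ (i + 1), ?_⟩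
  ext j
  rw [coeff_derivative, finsetSum_coeff, Finset.sum_eq_single j]
  · rw [coeff_C_mul_X_pow, if_pos rfl]
    by_cases hj : ((j + 1 : ℕ) : k) = 0
    · have hc : M.coeff j = 0 := by
        have hdvd : p ∣ j + 1 := (CharP.cast_eq_zero_iff k p _).1 hj
        have hle : p ≤ j + 1 := Nat.le_of_dvd (Nat.succ_pos _) hdvd
        have hj' : j - (p - 1) + (p - 1) = j := by omega
        have h1 := congrArg (fun q => q.coeff (j - (p - 1))) h
        simp only [coeff_iterate_derivative, coeff_zero, nsmul_eq_mul, hj'] at h1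
        refine (mul_eq_zero.1 h1).resolve_left fun h0 => ?_
        rw [CharP.cast_eq_zero_iff k p, Nat.descFactorial_eq_prod_range] at h0
        obtain ⟨a, ha, ha'⟩ := (Prime.dvd_finsetProd_iff hp.prime _).1 h0
        rw [Finset.mem_range] at ha
        have : p ∣ (j + 1) - (j - a) := Nat.dvd_sub hdvd ha'
        rw [show (j + 1) - (j - a) = a + 1 by omega] at this
        have := Nat.le_of_dvd (Nat.succ_pos _) this
        omega
      rw [hc, zero_div, zero_mul]
    · push_cast at hj ⊢
      field_simp
  · intro i _ hij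
    rw [coeff_C_mul_X_pow, if_neg (by omega)]
  · intro hj
    rw [notMem_support_iff.1 hj, zero_div, map_zero, zero_mul, coeff_zero]

theorem derivative_pow_mul {R : Type*} [CommRing R] (a : R) (m : ℕ) (V : R[X]) :
    derivative ((X - C a) ^ (m + 1) * V) =
      (X - C a) ^ m * (C ((m + 1 : ℕ) : R) * V + (X - C a) * derivative V) := by
  rw [derivative_mul, derivative_X_sub_C_pow, Nat.add_sub_cancel]
  ring

/-- At one point a `p`-th power corrects a polynomial with highly vanishing derivative. -/
theorem exists_local_correction (c : k) (U : k[X]) : ∀ N : ℕ, (X - C c) ^ (N - 1) ∣ derivative U →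
    ∃ q : k[X], (X - C c) ^ N ∣ U + expand k p q := by
  intro N
  induction N with
  | zero => exact fun _ => ⟨0, by simp⟩
  | succ N ih =>
    intro h
    rw [Nat.add_sub_cancel] at h
    obtain ⟨q, V, hV⟩ := ih ((pow_dvd_pow _ (Nat.sub_le _ _)).trans h)
    by_cases hN : p ∣ N
    · obtain ⟨l, rfl⟩ := hN
      refine ⟨q - C (V.eval c) * (X - C (c ^ p)) ^ l, ?_⟩
      have hx : expand k p (X - C (c ^ p)) = (X - C c) ^ p := by
        rw [map_sub, expand_X, expand_C, map_pow, sub_pow_char]
      rw [map_sub, map_mul, expand_C, map_pow, hx, ← pow_mul, ← add_sub_assoc, hV,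
        mul_comm (C (eval c V)), ← mul_sub, pow_succ]
      exact mul_dvd_mul_left _ (dvd_iff_isRoot.2 (by simp))
    · refine ⟨q, ?_⟩
      obtain ⟨m, rfl⟩ := Nat.exists_eq_succ_of_ne_zero (fun h0 : N = 0 => hN (h0 ▸ dvd_zero p))
      have hd : derivative (U + expand k p q) = derivative U := by
        rw [derivative_add, derivative_expand_zero, add_zero]
      rw [hV, derivative_pow_mul] at hd
      rw [← hd, pow_succ, mul_dvd_mul_iff_left (pow_ne_zero _ (X_sub_C_ne_zero c)), dvd_iff_isRoot] at h
      have hm : ((m + 1 : ℕ) : k) ≠ 0 := fun h0 => hN ((CharP.cast_eq_zero_iff k p _).1 h0)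
      have hV0 : V.IsRoot c := by
        have h' := h.eq_zero
        simp only [eval_add, eval_mul, eval_C, eval_sub, eval_X, sub_self, zero_mul, add_zero] at h'
        exact (mul_eq_zero.1 h').resolve_left hm
      rw [hV, pow_succ]
      exact mul_dvd_mul_left _ (dvd_iff_isRoot.2 hV0)

theorem pow_dvd_expand_pow (x : k) (m : ℕ) :
    (X - C x) ^ m ∣ expand k p ((X - C (x ^ p)) ^ m) := by
  rw [map_pow]
  refine pow_dvd_pow_of_dvd ?_ m
  rw [map_sub, expand_X, expand_C, map_pow, ← sub_pow_char]
  exact dvd_pow_self _ (Fact.out : p.Prime).ne_zero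

/-- The inductive step. -/
theorem correction_step (W₀ a b y u : k[X]) (c : k) (N : ℕ) (q₁ : k[X])
    (hab : a * y + b * u = 1) (hu : (X - C c) ^ N ∣ expand k p u)
    (hq₁ : (X - C c) ^ N ∣ W₀ * expand k p a + expand k p q₁) :
    (X - C c) ^ N ∣ W₀ + expand k p (y * q₁) := by
  have e : W₀ + expand k p (y * q₁) =
      expand k p y * (W₀ * expand k p a + expand k p q₁) + W₀ * expand k p b * expand k p u := by
    have h1 : expand k p a * expand k p y + expand k p b * expand k p u = 1 := by
      rw [← map_mul, ← map_mul, ← map_add, hab, map_one]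
    rw [map_mul]
    linear_combination -W₀ * h1
  rw [e]
  exact dvd_add (hq₁.mul_left _) (hu.mul_left _)

/-- Finitely many points at once. -/
theorem exists_correction (U : k[X]) (s : Finset k) (N : k → ℕ)
    (h : ∀ c ∈ s, (X - C c) ^ (N c - 1) ∣ derivative U) :
    ∃ q : k[X], ∀ c ∈ s, (X - C c) ^ N c ∣ U + expand k p q := by
  classical
  induction s using Finset.induction_on with
  | empty => exact ⟨0, by simp⟩
  | insert c s hc ih =>
    obtain ⟨q, hq⟩ := ih fun x hx => h x (Finset.mem_insert_of_mem hx)
    obtain ⟨y, hy⟩ : ∃ y : k[X], y = ∏ x ∈ s, (X - C (x ^ p)) ^ N x := ⟨_, rfl⟩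
    obtain ⟨a, b, hab⟩ : IsCoprime y ((X - C (c ^ p)) ^ N c) := by
      rw [hy]
      refine IsCoprime.prod_left fun x hx => (isCoprime_X_sub_C_of_isUnit_sub ?_).pow
      rw [isUnit_iff_ne_zero, ← sub_pow_char]
      exact pow_ne_zero _ (sub_ne_zero.2 fun e => hc (e ▸ hx))
    have hd : derivative (U + expand k p q) = derivative U := by
      rw [derivative_add, derivative_expand_zero, add_zero]
    obtain ⟨q₁, hq₁⟩ := exists_local_correction p c ((U + expand k p q) * expand k p a) (N c) (by
      rw [derivative_mul_expand, hd]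
      exact (h c (Finset.mem_insert_self _ _)).mul_right _)
    refine ⟨q + y * q₁, fun x hx => ?_⟩
    rw [map_add, ← add_assoc]
    rcases Finset.mem_insert.1 hx with hx | hx
    · rw [hx]
      exact correction_step p (U + expand k p q) a b y _ c (N c) q₁ hab (pow_dvd_expand_pow p c (N c)) hq₁
    · refine dvd_add (hq x hx) ?_
      rw [map_mul]
      refine Dvd.dvd.mul_right ((pow_dvd_expand_pow p x (N x)).trans ?_) _
      rw [hy]
      exact _root_.map_dvd (expand k p) (Finset.dvd_prod_of_mem (fun x => (X - C (x ^ p)) ^ N x) hx)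

theorem natDegree_wronskian_eq {h E : k[X]} (hh : h ≠ 0) (hE : E ≠ 0)
    (hne : (E.natDegree : k) ≠ (h.natDegree : k)) :
    (wronskian h E).natDegree + 1 = h.natDegree + E.natDegree := by
  have hpos : 1 ≤ h.natDegree + E.natDegree := by
    by_contra hlt
    exact hne (by rw [show E.natDegree = 0 by omega, show h.natDegree = 0 by omega])
  have h0 : (X * wronskian h E).coeff (h.natDegree + E.natDegree) =
      ((E.natDegree : k) - (h.natDegree : k)) * (h.leadingCoeff * E.leadingCoeff) := by
    have hx : ∀ (G : k[X]) (n : ℕ), (X * derivative G).coeff n = (n : k) * G.coeff n := fun G n => by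
      cases n with
      | zero => simp
      | succ n => rw [coeff_X_mul, coeff_derivative]; push_cast; ring
    have hd : ∀ H : k[X], (X * derivative H).natDegree ≤ H.natDegree := fun H =>
      natDegree_le_iff_coeff_eq_zero.2 fun j hj => by
        rw [hx, coeff_eq_zero_of_natDegree_lt hj, mul_zero]
    rw [show X * wronskian h E = h * (X * derivative E) - X * derivative h * E by rw [wronskian]; ring,
      coeff_sub, coeff_mul_add_eq_of_natDegree_le le_rfl (hd E),
      coeff_mul_add_eq_of_natDegree_le (hd h) le_rfl, hx, hx, coeff_natDegree, coeff_natDegree]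
    ring
  obtain ⟨n, hn⟩ := Nat.exists_eq_add_of_le' hpos
  rw [hn, coeff_X_mul] at h0
  have hne0 : (wronskian h E).coeff n ≠ 0 := by
    rw [h0]
    exact mul_ne_zero (sub_ne_zero.2 hne) (mul_ne_zero (leadingCoeff_ne_zero.2 hh) (leadingCoeff_ne_zero.2 hE))
  have hW0 : wronskian h E ≠ 0 := fun e => hne0 (by rw [e, coeff_zero])
  have := natDegree_wronskian_lt_add hW0
  have := le_natDegree_of_ne_zero hne0
  omega

/-- A polynomial `E` with `W(h, E) = W`. -/
theorem exists_partner [IsAlgClosed k] (d : ℕ) {W h : k[X]} (hh : h ≠ 0) (hW : W ≠ 0)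
    (hWdeg : W.natDegree = 2 * d - 2) (hhd : h.natDegree < d)
    (hex : derivative^[p - 1] (W * h ^ (p - 2)) = 0)
    (hroot : ∀ c, h.IsRoot c → rootMultiplicity c W + 1 = rootMultiplicity c h) :
    ∃ E : k[X], E.natDegree + h.natDegree + 1 = 2 * d ∧ wronskian h E = W := by
  classical
  have hp : p.Prime := Fact.out
  obtain ⟨U, hU⟩ := exists_antiderivative p hex
  obtain ⟨q, hq⟩ := exists_correction p U h.roots.toFinset (fun c => (p - 1) * rootMultiplicity c h) (by
    intro c hc
    rw [Multiset.mem_toFinset, mem_roots hh] at hc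
    rw [hU]
    refine (pow_dvd_pow _ (le_of_eq ?_)).trans (pow_rootMultiplicity_dvd (W * h ^ (p - 2)) c)
    rw [rootMultiplicity_mul (mul_ne_zero hW (pow_ne_zero _ hh)), ← count_roots (h ^ (p - 2)), roots_pow,
      Multiset.count_nsmul, count_roots]
    have h1 := hroot c hc
    have h2 : p - 1 = p - 2 + 1 := by have := hp.two_le; omega
    rw [h2, add_mul, one_mul]
    omega)
  have hdvd : h ^ (p - 1) ∣ U + expand k p q := by
    conv_lhs => rw [(IsAlgClosed.splits h).eq_prod_roots, Finset.prod_multiset_map_count, mul_pow,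
      ← Finset.prod_pow]
    rw [IsUnit.mul_left_dvd ((isUnit_C.2 (leadingCoeff_ne_zero.2 hh).isUnit).pow _)]
    refine Finset.prod_dvd_of_coprime (fun x _ y _ hxy =>
      ((isCoprime_X_sub_C_of_isUnit_sub (sub_ne_zero.2 hxy).isUnit).pow).pow) fun c hc => ?_
    rw [count_roots, ← pow_mul, mul_comm]
    exact hq c hc
  obtain ⟨E₀, hE₀⟩ := hdvd
  have hd : derivative (U + expand k p q) = W * h ^ (p - 2) := by
    rw [derivative_add, derivative_expand_zero, add_zero, hU]
  have hwr : wronskian h E₀ = W := by
    rw [hE₀, derivative_mul, derivative_pow] at hd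
    refine mul_right_cancel₀ (pow_ne_zero (p - 2) hh) ?_
    rw [← hd, wronskian]
    obtain ⟨j, hj⟩ : ∃ j, p = j + 2 := ⟨p - 2, by have := hp.two_le; omega⟩
    subst hj
    rw [show j + 2 - 1 = j + 1 by omega, show j + 1 - 1 = j by omega, show j + 2 - 2 = j by omega]
    have hc : C ((j + 1 : ℕ) : k) = (-1 : k[X]) := by
      have : ((j + 1 : ℕ) : k) = -1 := by
        have h := CharP.cast_eq_zero k (j + 2)
        push_cast at h ⊢
        linear_combination h
      rw [this]; simp
    rw [hc]; ring
  let P : ℕ → Prop := fun n => ∃ E : k[X], E.natDegree = n ∧ wronskian h E = W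
  have hP : ∃ n, P n := ⟨_, E₀, rfl, hwr⟩
  obtain ⟨E, hEn, hEW⟩ := Nat.find_spec hP
  have hE : E ≠ 0 := by rintro rfl; exact hW (by rw [← hEW, wronskian_zero_right])
  have hlt : (wronskian h E).natDegree < h.natDegree + E.natDegree :=
    natDegree_wronskian_lt_add (hEW ▸ hW)
  rw [hEW, hWdeg] at hlt
  have hgt : h.natDegree < E.natDegree := by omega
  have hne : (E.natDegree : k) ≠ (h.natDegree : k) := by
    intro he
    rw [← sub_eq_zero, ← Nat.cast_sub hgt.le, CharP.cast_eq_zero_iff k p] at he
    obtain ⟨l, hl⟩ := he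
    let E' := E - h * expand k p (C (E.leadingCoeff / h.leadingCoeff) * X ^ l)
    have hE'W : wronskian h E' = W := by
      rw [← hEW]
      simp only [E', wronskian, derivative_sub, derivative_mul_expand]
      ring
    have hE' : E'.natDegree < E.natDegree := by
      have hx : h * expand k p (C (E.leadingCoeff / h.leadingCoeff) * X ^ l) =
          h * (C (E.leadingCoeff / h.leadingCoeff) * X ^ (E.natDegree - h.natDegree)) := by
        rw [map_mul, expand_C, map_pow, expand_X, ← pow_mul, ← hl]
      have hc : E.leadingCoeff / h.leadingCoeff ≠ 0 :=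
        div_ne_zero (leadingCoeff_ne_zero.2 hE) (leadingCoeff_ne_zero.2 hh)
      have hd2 : (h * (C (E.leadingCoeff / h.leadingCoeff) * X ^ (E.natDegree - h.natDegree))).degree =
          E.degree := by
        rw [degree_mul, degree_C_mul_X_pow _ hc, degree_eq_natDegree hh, degree_eq_natDegree hE, ← Nat.cast_add,
          Nat.add_sub_cancel' hgt.le]
      have hlc : (h * (C (E.leadingCoeff / h.leadingCoeff) * X ^ (E.natDegree - h.natDegree))).leadingCoeff =
          E.leadingCoeff := by
        rw [leadingCoeff_mul, leadingCoeff_C_mul_X_pow, mul_div_cancel₀ _ (leadingCoeff_ne_zero.2 hh)]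
      by_cases h0 : E' = 0
      · rw [h0, natDegree_zero]; omega
      · refine natDegree_lt_natDegree h0 ?_
        show (E - _).degree < E.degree
        rw [hx]
        exact degree_sub_lt_left hd2.symm hE hlc.symm
    exact Nat.find_min hP (hEn ▸ hE') ⟨E', rfl, hE'W⟩
  have := natDegree_wronskian_eq hh hE hne
  rw [hEW, hWdeg] at this
  exact ⟨E, by omega, hEW⟩

end Groth.Misc6.PencilLimit
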