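import Mathlib.RingTheory.Polynomial.Wronskian
import Mathlib.Algebra.Polynomial.Roots
import Mathlib.Algebra.Polynomial.BigOperators
import Mathlib.RingTheory.Valuation.ValuationSubring
import Mathlib.FieldTheory.Finite.Basic
import Mathlib.FieldTheory.IsAlgClosed.Basic

/-!
# Clusters of roots of a polynomial with prescribed Wronskian
-/

set_option autoImplicit false

open Polynomial

namespace Groth.Misc6.PencilLimit

variable {Ω : Type*} [Field Ω]

theorem sum_sum_div (S : Finset Ω) (g : Ω) :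
    2 * ∑ ρ ∈ S, ∑ δ ∈ S, (ρ - g) / (ρ - δ) = (S.card : Ω) * ((S.card : Ω) - 1) := by
  classical
  have h : ∀ ρ ∈ S, ∀ δ ∈ S, (ρ - g) / (ρ - δ) + (δ - g) / (δ - ρ) = 1 - if δ = ρ then 1 else 0 := by
    intro ρ _ δ _
    by_cases hd : δ = ρ
    · subst hd; simp
    · have hd' : ρ - δ ≠ 0 := sub_ne_zero.2 (Ne.symm hd)
      rw [if_neg hd, sub_zero, ← neg_sub ρ δ, div_neg, ← sub_eq_add_neg, ← sub_div,
        show ρ - g - (δ - g) = ρ - δ by ring, div_self hd']
  calc 2 * ∑ ρ ∈ S, ∑ δ ∈ S, (ρ - g) / (ρ - δ)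
      = ∑ ρ ∈ S, ∑ δ ∈ S, ((ρ - g) / (ρ - δ) + (δ - g) / (δ - ρ)) := by
        simp only [Finset.sum_add_distrib]
        rw [Finset.sum_comm (f := fun ρ δ => (δ - g) / (δ - ρ)), two_mul]
    _ = ∑ ρ ∈ S, ((S.card : Ω) - 1) := Finset.sum_congr rfl fun ρ hρ => by
        rw [Finset.sum_congr rfl (h ρ hρ), Finset.sum_sub_distrib, Finset.sum_ite_eq', if_pos hρ]
        simp
    _ = _ := by rw [Finset.sum_const, nsmul_eq_mul]

theorem eq_zero_of_valuation_intCast_lt_one (p : ℕ) [Fact p.Prime] [CharP Ω p] {Γ : Type*}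
    [LinearOrderedCommGroupWithZero Γ] (v : Valuation Ω Γ) (z : ℤ) (h : v (z : Ω) < 1) : (z : Ω) = 0 := by
  by_contra h0
  have h1 : (z : ZMod p) ≠ 0 := fun e => h0 (by
    rw [← map_intCast (ZMod.castHom dvd_rfl Ω) z, e, map_zero])
  have h2 : (z : Ω) ^ (p - 1) = 1 := by
    rw [← map_intCast (ZMod.castHom dvd_rfl Ω) z, ← map_pow, ZMod.pow_card_sub_one_eq_one h1, map_one]
  have h3 := congrArg v h2
  rw [map_pow, map_one] at h3
  have hp : p - 1 ≠ 0 := by have := (Fact.out : p.Prime).two_le; omega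
  exact absurd h3 (pow_lt_one₀ zero_le h hp).ne

/-- The sum over a cluster. -/
theorem cluster (p : ℕ) [Fact p.Prime] [CharP Ω p] {Γ : Type*} [LinearOrderedCommGroupWithZero Γ]
    (v : Valuation Ω Γ) (R S : Finset Ω) (hS : S ⊆ R) {ι : Type*} [Fintype ι] (a : ι → Ω) (m : ι → ℕ)
    (g : Ω) (u : ℕ) (u' : ι → ℕ)
    (key : ∀ ρ ∈ R, 2 * ∑ δ ∈ R, (ρ - δ)⁻¹ = ∑ i, (m i : Ω) / (ρ - a i))
    (hu : ∀ ρ ∈ S, ∀ δ ∈ R, δ ∉ S → v ((ρ - g) / (ρ - δ) - u) < 1)
    (hu' : ∀ ρ ∈ S, ∀ i, v ((ρ - g) / (ρ - a i) - u' i) < 1) :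
    (S.card : Ω) * ((S.card : Ω) - 1) + 2 * (S.card : Ω) * ((R.card : Ω) - S.card) * u
      - (S.card : Ω) * ∑ i, (m i : Ω) * u' i = 0 := by
  classical
  let T := R \ S
  have hcard : ((T.card : ℕ) : Ω) = (R.card : Ω) - S.card := by
    rw [Finset.card_sdiff_of_subset hS, Nat.cast_sub (Finset.card_le_card hS)]
  have hρ : ∀ ρ ∈ S, 2 * ∑ δ ∈ S, (ρ - g) / (ρ - δ) =
      ∑ i, (m i : Ω) * ((ρ - g) / (ρ - a i)) - 2 * ∑ δ ∈ T, (ρ - g) / (ρ - δ) := by
    intro ρ hρ
    have h := congrArg (fun x => (ρ - g) * x) (key ρ (hS hρ))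
    rw [← Finset.sum_sdiff hS, mul_left_comm, mul_add, Finset.mul_sum, Finset.mul_sum, Finset.mul_sum] at h
    simp only [← div_eq_mul_inv] at h
    have e : ∑ i, (ρ - g) * ((m i : Ω) / (ρ - a i)) = ∑ i, (m i : Ω) * ((ρ - g) / (ρ - a i)) :=
      Finset.sum_congr rfl fun i _ => by ring
    rw [e] at h
    linear_combination h
  have hsum : (S.card : Ω) * ((S.card : Ω) - 1) + 2 * (S.card : Ω) * ((R.card : Ω) - S.card) * u
      - (S.card : Ω) * ∑ i, (m i : Ω) * u' i =
    ∑ ρ ∈ S, (∑ i, m i • ((ρ - g) / (ρ - a i) - u' i) - 2 • ∑ δ ∈ T, ((ρ - g) / (ρ - δ) - u)) := by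
    rw [← sum_sum_div S g, Finset.mul_sum, Finset.sum_congr rfl hρ]
    simp only [nsmul_eq_mul, mul_sub, Finset.sum_sub_distrib, Finset.sum_const, Nat.cast_ofNat]
    rw [hcard]
    ring
  have hz : ∃ z : ℤ, (z : Ω) = (S.card : Ω) * ((S.card : Ω) - 1) +
      2 * (S.card : Ω) * ((R.card : Ω) - S.card) * u - (S.card : Ω) * ∑ i, (m i : Ω) * u' i :=
    ⟨(S.card : ℤ) * ((S.card : ℤ) - 1) + 2 * (S.card : ℤ) * ((R.card : ℤ) - S.card) * u
      - (S.card : ℤ) * ∑ i, (m i : ℤ) * u' i, by push_cast; ring⟩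
  obtain ⟨z, hz⟩ := hz
  rw [← hz] at hsum ⊢
  refine eq_zero_of_valuation_intCast_lt_one p v z ?_
  rw [hsum]
  have hmem : ∀ x : Ω, v x < 1 → x ∈ v.ltAddSubgroup (1 : Γˣ) := fun x hx => hx
  refine (?_ : _ ∈ v.ltAddSubgroup (1 : Γˣ))
  refine sum_mem fun ρ hρ => sub_mem (sum_mem fun i _ => nsmul_mem (hmem _ (hu' ρ hρ i)) _)
    (nsmul_mem (sum_mem fun δ hδ => ?_) _)
  exact hmem _ (hu ρ hρ δ (Finset.mem_sdiff.1 hδ).1 (Finset.mem_sdiff.1 hδ).2)

theorem eval_derivative_prod {ι : Type*} (S : Finset ι) (a : ι → Ω) (m : ι → ℕ) (x : Ω)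
    (h : ∀ i ∈ S, x ≠ a i) :
    eval x (derivative (∏ i ∈ S, (X - C (a i)) ^ m i)) =
      eval x (∏ i ∈ S, (X - C (a i)) ^ m i) * ∑ i ∈ S, (m i : Ω) / (x - a i) := by
  classical
  induction S using Finset.induction_on with
  | empty => simp
  | insert j S hj ih =>
    have hx : x - a j ≠ 0 := sub_ne_zero.2 (h j (Finset.mem_insert_self _ _))
    rw [Finset.prod_insert hj, Finset.sum_insert hj, derivative_mul, eval_add, eval_mul, eval_mul,
      ih fun i hi => h i (Finset.mem_insert_of_mem hi), eval_mul, derivative_X_sub_C_pow]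
    rcases Nat.eq_zero_or_pos (m j) with h0 | hpos
    · simp [h0]
    · obtain ⟨l, hl⟩ := Nat.exists_eq_add_of_le' hpos
      simp only [hl, Nat.add_sub_cancel, eval_mul, eval_pow, eval_sub, eval_X, eval_C, pow_succ]
      field_simp

/-- The equation satisfied by the roots. -/
theorem root_identity {F L : Ω[X]} {l w : Ω} (hl : l ≠ 0) (hw : w ≠ 0) (R : Finset Ω)
    (hL : L = C l * ∏ δ ∈ R, (X - C δ)) {ι : Type*} [Fintype ι] (a : ι → Ω) (m : ι → ℕ)
    (hW : wronskian F L = C w * ∏ i, (X - C (a i)) ^ m i) (ρ : Ω) (hρ : ρ ∈ R) (hne : ∀ i, ρ ≠ a i) :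
    2 * ∑ δ ∈ R, (ρ - δ)⁻¹ = ∑ i, (m i : Ω) / (ρ - a i) := by
  classical
  let M : Ω[X] := C l * ∏ δ ∈ R.erase ρ, (X - C δ)
  let Q : Ω[X] := ∏ i, (X - C (a i)) ^ m i
  have hLM : L = (X - C ρ) * M := by
    rw [hL, ← Finset.mul_prod_erase R _ hρ]; ring
  have hM0 : eval ρ M ≠ 0 := by
    simp only [M, eval_mul, eval_C, eval_prod, eval_sub, eval_X]
    exact mul_ne_zero hl (Finset.prod_ne_zero_iff.2 fun δ hδ => sub_ne_zero.2 (Finset.ne_of_mem_erase hδ).symm)
  have hQ0 : eval ρ Q ≠ 0 := by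
    simp only [Q, eval_prod, eval_pow, eval_sub, eval_X, eval_C]
    exact Finset.prod_ne_zero_iff.2 fun i _ => pow_ne_zero _ (sub_ne_zero.2 (hne i))
  have hM1 : eval ρ (derivative M) = eval ρ M * ∑ δ ∈ R, (ρ - δ)⁻¹ := by
    have h := eval_derivative_prod (R.erase ρ) id (fun _ => 1) ρ
      (fun δ hδ => (Finset.ne_of_mem_erase hδ).symm)
    simp only [id, pow_one, Nat.cast_one, one_div] at h
    rw [← Finset.add_sum_erase R _ hρ, sub_self, inv_zero, zero_add]
    simp only [M, derivative_C_mul, eval_mul, eval_C, h, mul_assoc]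
  have hL0 : eval ρ L = 0 := by rw [hLM]; simp
  have hL1 : eval ρ (derivative L) = eval ρ M := by rw [hLM]; simp [derivative_mul]
  have hL2 : eval ρ (derivative (derivative L)) = 2 * eval ρ (derivative M) := by
    rw [hLM]; simp [derivative_mul]; ring
  have hQ1 : eval ρ (derivative Q) = eval ρ Q * ∑ i, (m i : Ω) / (ρ - a i) :=
    eval_derivative_prod Finset.univ a m ρ fun i _ => hne i
  have h0 := congrArg (eval ρ) hW
  have h1 := congrArg (fun x => eval ρ (derivative x)) hW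
  simp only [wronskian, derivative_sub, derivative_mul, derivative_C, zero_mul, zero_add,
    eval_sub, eval_add, eval_mul, eval_C, hL0, hL1, hL2, mul_zero, sub_zero, hM1] at h0 h1
  change _ = w * eval ρ Q at h0
  change _ = w * eval ρ (derivative Q) at h1
  rw [hQ1] at h1
  refine mul_left_cancel₀ (mul_ne_zero hw hQ0) ?_
  linear_combination h1 - (2 * ∑ δ ∈ R, (ρ - δ)⁻¹) * h0

/-- Reduction of a polynomial at a valuation ring. -/
theorem reduction (O : ValuationSubring Ω) (L : O[X]) (hne : L.map (IsLocalRing.residue O) ≠ 0)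
    (R : Finset Ω) (l : Ω) (hL : L.map O.subtype = C l * ∏ δ ∈ R, (X - C δ)) :
    ∃ Rin : Finset O, (∀ x : O, x ∈ Rin ↔ (x : Ω) ∈ R) ∧
      ∃ c : IsLocalRing.ResidueField O, c ≠ 0 ∧
        L.map (IsLocalRing.residue O) = C c * ∏ x ∈ Rin, (X - C (IsLocalRing.residue O x)) := by
  classical
  let Rin : Finset O := R.subtype (fun x => x ∈ O)
  have hRin : ∀ x : O, x ∈ Rin ↔ (x : Ω) ∈ R := fun x => Finset.mem_subtype
  refine ⟨Rin, hRin, ?_⟩
  let Rout := R.filter (fun x => x ∉ O)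
  have hout : ∀ δ ∈ Rout, δ ≠ 0 ∧ δ⁻¹ ∈ O := by
    intro δ hδ
    have := (Finset.mem_filter.1 hδ).2
    exact ⟨fun h => this (h ▸ zero_mem O), (O.mem_or_inv_mem δ).resolve_left this⟩
  let inv : {x // x ∈ Rout} → O := fun δ => ⟨(δ : Ω)⁻¹, (hout δ δ.2).2⟩
  have hinv : ∀ δ, IsLocalRing.residue O (inv δ) = 0 := by
    intro δ
    rw [IsLocalRing.residue_eq_zero_iff, IsLocalRing.mem_maximalIdeal, mem_nonunits_iff]
    intro hu
    obtain ⟨y, hy⟩ := isUnit_iff_exists_inv.1 hu
    have hy' : (δ : Ω)⁻¹ * (y : Ω) = 1 := congrArg Subtype.val hy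
    exact (Finset.mem_filter.1 δ.2).2
      ((eq_of_inv_mul_eq_one hy').symm ▸ y.2)
  let G : O[X] := (∏ x ∈ Rin, (X - C x)) * ∏ δ ∈ Rout.attach, (C (inv δ) * X - 1)
  let s : Ω := l * ∏ δ ∈ Rout, δ
  have hG : L.map O.subtype = C s * G.map O.subtype := by
    have h1 : (∏ x ∈ Rin, (X - C x)).map O.subtype = ∏ δ ∈ R.filter (fun x => x ∈ O), (X - C δ) := by
      simp only [Polynomial.map_prod, Polynomial.map_sub, map_X, map_C]
      exact Finset.prod_subtype_eq_prod_filter (f := fun δ : Ω => X - C δ) ..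
    have h2 : C (∏ δ ∈ Rout, δ) * (∏ δ ∈ Rout.attach, (C (inv δ) * X - 1)).map O.subtype =
        ∏ δ ∈ Rout, (X - C δ) := by
      simp only [Polynomial.map_prod, Polynomial.map_sub, Polynomial.map_mul, map_X, map_C,
        Polynomial.map_one]
      rw [← Finset.prod_attach Rout (fun δ => δ), map_prod, ← Finset.prod_mul_distrib,
        ← Finset.prod_attach Rout (fun δ => X - C δ)]
      refine Finset.prod_congr rfl fun δ _ => ?_
      rw [mul_sub, mul_one, ← mul_assoc, ← map_mul]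
      change C ((δ : Ω) * (δ : Ω)⁻¹) * X - _ = _
      rw [mul_inv_cancel₀ (hout δ δ.2).1, map_one, one_mul]
    rw [hL, ← Finset.prod_filter_mul_prod_filter_not R (fun x => x ∈ O), ← h1, ← h2,
      Polynomial.map_mul, map_mul]
    ring
  have hGbar : G.map (IsLocalRing.residue O) =
      C ((-1) ^ Rout.card) * ∏ x ∈ Rin, (X - C (IsLocalRing.residue O x)) := by
    simp only [G, Polynomial.map_mul, Polynomial.map_prod, Polynomial.map_sub, map_X, map_C,
      Polynomial.map_one, hinv, map_zero, zero_mul, zero_sub, Finset.prod_const, Finset.card_attach]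
    rw [mul_comm, map_pow, map_neg, map_one]
  have hG0 : G.map (IsLocalRing.residue O) ≠ 0 := by
    rw [hGbar]
    exact mul_ne_zero (C_ne_zero.2 (pow_ne_zero _ (neg_ne_zero.2 one_ne_zero)))
      (monic_prod_of_monic _ _ fun x _ => monic_X_sub_C _).ne_zero
  obtain ⟨j, hj⟩ : ∃ j, IsLocalRing.residue O (G.coeff j) ≠ 0 := by
    by_contra! h
    exact hG0 (Polynomial.ext fun j => by rw [coeff_map, h, coeff_zero])
  obtain ⟨y, hy⟩ := isUnit_iff_exists_inv.1 ((IsLocalRing.residue_ne_zero_iff_isUnit _).1 hj)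
  let s' : O := L.coeff j * y
  have hs : (s' : Ω) = s := by
    have h1 := congrArg (fun q => q.coeff j) hG
    simp only [coeff_map, coeff_C_mul] at h1
    have h2 : ((G.coeff j : O) : Ω) * (y : Ω) = 1 := congrArg Subtype.val hy
    change O.subtype (L.coeff j) * (y : Ω) = s
    rw [h1, mul_assoc]
    change s * (((G.coeff j : O) : Ω) * (y : Ω)) = s
    rw [h2, mul_one]
  have hLG : L = C s' * G := by
    apply Polynomial.map_injective O.subtype O.subtype_injective
    rw [hG, Polynomial.map_mul (p := C s'), map_C, O.subtype_apply, hs]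
  refine ⟨IsLocalRing.residue O s' * (-1) ^ Rout.card, ?_, ?_⟩
  · refine mul_ne_zero (fun h => hne ?_) (pow_ne_zero _ (neg_ne_zero.2 one_ne_zero))
    rw [hLG, Polynomial.map_mul, map_C, h, map_zero, zero_mul]
  · rw [hLG, Polynomial.map_mul, map_C, hGbar]
    simp only [map_mul]
    ring

variable [IsAlgClosed Ω]

theorem exists_prod_roots {F L : Ω[X]} (hL : L ≠ 0) {w : Ω} (hw : w ≠ 0) {ι : Type*} [Fintype ι]
    (a : ι → Ω) (m : ι → ℕ) (hW : wronskian F L = C w * ∏ i, (X - C (a i)) ^ m i)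
    (hLa : ∀ i, L.eval (a i) ≠ 0) :
    ∃ R : Finset Ω, R.card = L.natDegree ∧ L = C L.leadingCoeff * ∏ δ ∈ R, (X - C δ) ∧
      ∀ ρ ∈ R, ∀ i, ρ ≠ a i := by
  classical
  have hne : ∀ ρ, L.IsRoot ρ → ∀ i, ρ ≠ a i := fun ρ hρ i h => hLa i (h ▸ hρ)
  have hnd : L.roots.Nodup := by
    rw [Multiset.nodup_iff_count_le_one]
    intro ρ
    rw [count_roots]
    by_contra! h
    obtain ⟨h1, h2⟩ := (one_lt_rootMultiplicity_iff_isRoot hL).1 h
    have h0 := congrArg (eval ρ) hW
    simp only [wronskian, eval_sub, eval_mul, eval_C, eval_prod, eval_pow, eval_X, h1.eq_zero,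
      h2.eq_zero, mul_zero, sub_zero] at h0
    exact mul_ne_zero hw (Finset.prod_ne_zero_iff.2 fun i _ => pow_ne_zero _ (sub_ne_zero.2 (hne ρ h1 i))) h0.symm
  refine ⟨⟨L.roots, hnd⟩, (IsAlgClosed.splits L).natDegree_eq_card_roots.symm,
    (IsAlgClosed.splits L).eq_prod_roots, fun ρ hρ => hne ρ ((mem_roots hL).1 hρ)⟩

/-- Congruences for the multiplicities of the roots of the reduction. -/
theorem mult_congr (p : ℕ) [Fact p.Prime] [CharP Ω p] (O : ValuationSubring Ω) (F L : O[X])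
    (hLbar : L.map (IsLocalRing.residue O) ≠ 0) {d : ℕ} (hd : (L.map O.subtype).natDegree = d)
    {w : Ω} (hw : w ≠ 0) {ι : Type*} [Fintype ι] (a : ι → O) (m : ι → ℕ) (hm : (∑ i, m i) + 2 = 2 * d)
    (hinj : Function.Injective fun i => IsLocalRing.residue O (a i))
    (hW : wronskian (F.map O.subtype) (L.map O.subtype) = C w * ∏ i, (X - C (a i : Ω)) ^ m i)
    (hLa : ∀ i, (L.map O.subtype).eval (a i : Ω) ≠ 0) :
    (∀ i, ((L.map (IsLocalRing.residue O)).rootMultiplicity (IsLocalRing.residue O (a i)) : Ω) *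
        (((L.map (IsLocalRing.residue O)).rootMultiplicity (IsLocalRing.residue O (a i)) : Ω) - 1 - m i) = 0) ∧
    (∀ c, (∀ i, c ≠ IsLocalRing.residue O (a i)) →
      ((L.map (IsLocalRing.residue O)).rootMultiplicity c : Ω) *
        (((L.map (IsLocalRing.residue O)).rootMultiplicity c : Ω) - 1) = 0) ∧
    ((d - (L.map (IsLocalRing.residue O)).natDegree : ℕ) : Ω) *
      (((d - (L.map (IsLocalRing.residue O)).natDegree : ℕ) : Ω) - 1) = 0 := by
  classical
  have hL0 : L.map O.subtype ≠ 0 := by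
    rw [Polynomial.map_ne_zero_iff O.subtype_injective]
    rintro rfl; exact hLbar (Polynomial.map_zero _)
  obtain ⟨R, hRcard, hR, hRne⟩ := exists_prod_roots hL0 hw (fun i => (a i : Ω)) m hW hLa
  rw [hd] at hRcard
  have key : ∀ ρ ∈ R, 2 * ∑ δ ∈ R, (ρ - δ)⁻¹ = ∑ i, (m i : Ω) / (ρ - a i) := fun ρ hρ =>
    root_identity (leadingCoeff_ne_zero.2 hL0) hw R hR _ m hW ρ hρ (hRne ρ hρ)
  obtain ⟨Rin, hRin, c₀, hc₀, hred⟩ := reduction O L hLbar R _ hR
  let T : Multiset (IsLocalRing.ResidueField O) := Rin.1.map (IsLocalRing.residue O)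
  have hred' : L.map (IsLocalRing.residue O) = C c₀ * (T.map fun x => X - C x).prod := by
    rw [hred, Multiset.map_map]; rfl
  have hmult : ∀ c, (L.map (IsLocalRing.residue O)).rootMultiplicity c =
      (Rin.filter fun x => IsLocalRing.residue O x = c).card := by
    intro c
    rw [← count_roots, hred', roots_C_mul _ hc₀, roots_multiset_prod_X_sub_C, Multiset.count_map,
      Finset.card_def, Finset.filter_val]
    congr 1
    exact Multiset.filter_congr fun x _ => eq_comm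
  have hdeg : (L.map (IsLocalRing.residue O)).natDegree = Rin.card := by
    rw [hred', natDegree_C_mul hc₀, natDegree_multiset_prod_X_sub_C_eq_card, Multiset.card_map]
    rfl
  let v := O.valuation
  have hres : ∀ x y : O, IsLocalRing.residue O x = IsLocalRing.residue O y ↔ v ((x : Ω) - y) < 1 := by
    intro x y
    rw [← sub_eq_zero, ← map_sub, IsLocalRing.residue_eq_zero_iff, O.valuation_lt_one_iff]
    rfl
  have disc : ∀ g : O, (∀ i, v ((a i : Ω) - g) < 1 → a i = g) →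
      ((L.map (IsLocalRing.residue O)).rootMultiplicity (IsLocalRing.residue O g) : Ω) *
        (((L.map (IsLocalRing.residue O)).rootMultiplicity (IsLocalRing.residue O g) : Ω) - 1
          - ∑ i, (m i : Ω) * ((if a i = g then 1 else 0 : ℕ) : Ω)) = 0 := by
    intro g hg
    let S := R.filter fun ρ => v (ρ - g) < 1
    have hS : S.card = (L.map (IsLocalRing.residue O)).rootMultiplicity (IsLocalRing.residue O g) := by
      rw [hmult, ← Finset.card_map (Function.Embedding.subtype fun x : Ω => x ∈ O)]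
      refine congrArg Finset.card (Finset.ext fun x => ?_)
      simp only [S, Finset.mem_filter, Finset.mem_map, Function.Embedding.coe_subtype, hres]
      constructor
      · rintro ⟨hxR, hx⟩
        have hxO : x ∈ O := by
          rw [← sub_add_cancel x (g : Ω)]
          exact add_mem ((O.valuation_le_one_iff _).1 hx.le) g.2
        exact ⟨⟨x, hxO⟩, ⟨(hRin _).2 hxR, hx⟩, rfl⟩
      · rintro ⟨y, ⟨hy, hy'⟩, rfl⟩
        exact ⟨(hRin _).1 hy, hy'⟩
    have h := cluster p v R S (Finset.filter_subset _ _) (fun i => (a i : Ω)) m (g : Ω) 0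
      (fun i => if a i = g then 1 else 0) key ?_ ?_
    · rw [hS] at h
      linear_combination h
    · intro ρ hρ δ hδ hδS
      have h1 : v (ρ - g) < 1 := (Finset.mem_filter.1 hρ).2
      have h2 : 1 ≤ v (δ - g) := not_lt.1 fun h => hδS (Finset.mem_filter.2 ⟨hδ, h⟩)
      rw [Nat.cast_zero, sub_zero, map_div₀, show ρ - δ = (ρ - g) - (δ - g) by ring,
        v.map_sub_eq_of_lt_right (h1.trans_le h2), div_lt_one₀ (zero_lt_one.trans_le h2)]
      exact h1.trans_le h2
    · intro ρ hρ i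
      have h1 : v (ρ - g) < 1 := (Finset.mem_filter.1 hρ).2
      have h0 : ρ - a i ≠ 0 := sub_ne_zero.2 (hRne ρ (Finset.mem_filter.1 hρ).1 i)
      by_cases h : a i = g
      · rw [h] at h0
        rw [if_pos h, Nat.cast_one, h, div_self h0, sub_self, map_zero]
        exact zero_lt_one
      · have h2 : 1 ≤ v ((a i : Ω) - g) := not_lt.1 fun h' => h (hg i h')
        rw [if_neg h, Nat.cast_zero, sub_zero, map_div₀,
          show ρ - (a i : Ω) = (ρ - g) - ((a i : Ω) - g) by ring,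
          v.map_sub_eq_of_lt_right (h1.trans_le h2), div_lt_one₀ (zero_lt_one.trans_le h2)]
        exact h1.trans_le h2
  refine ⟨fun i => ?_, fun c hc => ?_, ?_⟩
  · have h := disc (a i) fun j hj => congrArg a (hinj ((hres _ _).2 hj))
    rwa [Finset.sum_eq_single i (fun j _ hj => by
        rw [if_neg fun h : a j = a i => hj (hinj (congrArg (IsLocalRing.residue O) h)), Nat.cast_zero, mul_zero])
      (fun h => absurd (Finset.mem_univ i) h), if_pos rfl, Nat.cast_one, mul_one] at h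
  · obtain ⟨g, rfl⟩ := IsLocalRing.residue_surjective c
    have h := disc g fun i hi => absurd ((hres _ _).2 hi).symm (hc i)
    rwa [Finset.sum_eq_zero (fun i _ => by
      rw [if_neg fun h : a i = g => hc i (congrArg (IsLocalRing.residue O) h.symm), Nat.cast_zero, mul_zero]),
      sub_zero] at h
  · let S := R.filter fun ρ => 1 < v ρ
    have hS : S.card = d - Rin.card := by
      have h1 := Finset.card_filter_add_card_filter_not (s := R) (fun ρ => 1 < v ρ)
      have h2 : (R.filter fun ρ => ¬ 1 < v ρ).card = Rin.card := by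
        rw [← Finset.card_map (Function.Embedding.subtype fun x : Ω => x ∈ O)]
        refine congrArg Finset.card (Finset.ext fun x => ?_)
        simp only [Finset.mem_filter, Finset.mem_map, Function.Embedding.coe_subtype, not_lt]
        constructor
        · rintro ⟨hxR, hx⟩
          exact ⟨⟨x, (O.valuation_le_one_iff _).1 hx⟩, (hRin _).2 hxR, rfl⟩
        · rintro ⟨y, hy, rfl⟩
          exact ⟨(hRin _).1 hy, O.valuation_le_one y⟩
      change S.card + _ = _ at h1
      omega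
    have h := cluster p v R S (Finset.filter_subset _ _) (fun i => (a i : Ω)) m 0 1 (fun _ => 1) key ?_ ?_
    · have hm' : (∑ i, (m i : Ω)) + 2 = 2 * d := by exact_mod_cast congrArg (Nat.cast (R := Ω)) hm
      simp only [Nat.cast_one, mul_one, hRcard] at h
      rw [hdeg, ← hS]
      linear_combination -h - (S.card : Ω) * hm'
    · intro ρ hρ δ hδ hδS
      have h1 : 1 < v ρ := (Finset.mem_filter.1 hρ).2
      have h2 : v δ ≤ 1 := not_lt.1 fun h => hδS (Finset.mem_filter.2 ⟨hδ, h⟩)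
      have hd0 : ρ - δ ≠ 0 := sub_ne_zero.2 fun e => (e ▸ h1).not_ge h2
      rw [sub_zero, Nat.cast_one, div_sub_one hd0, sub_sub_cancel, map_div₀,
        v.map_sub_eq_of_lt_left (h2.trans_lt h1), div_lt_one₀ (zero_lt_one.trans h1)]
      exact h2.trans_lt h1
    · intro ρ hρ i
      have h1 : 1 < v ρ := (Finset.mem_filter.1 hρ).2
      have h2 : v (a i : Ω) ≤ 1 := O.valuation_le_one (a i)
      have hd0 : ρ - (a i : Ω) ≠ 0 := sub_ne_zero.2 fun e => (e ▸ h1).not_ge h2
      rw [sub_zero, Nat.cast_one, div_sub_one hd0, sub_sub_cancel, map_div₀,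
        v.map_sub_eq_of_lt_left (h2.trans_lt h1), div_lt_one₀ (zero_lt_one.trans h1)]
      exact h2.trans_lt h1

end Groth.Misc6.PencilLimit
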