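import Groth.Agent.Misc6.Pencil3
import Groth.Agent.Misc6.PencilLimit.Partner
import Groth.Agent.Misc6.PencilLimit.Roots

/-!
# The special configuration
-/

set_option autoImplicit false

open Polynomial W4c1limliniiii

namespace Groth.Misc6.PencilLimit

variable {k : Type*} [Field k]

theorem rootMultiplicity_prod_X_sub_C_pow [DecidableEq k] {ι : Type*} (S : Finset ι) (a : ι → k) (m : ι → ℕ)
    (x : k) :
    rootMultiplicity x (∏ i ∈ S, (X - C (a i)) ^ m i) = ∑ i ∈ S, if a i = x then m i else 0 := by
  classical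
  induction S using Finset.induction_on with
  | empty => rw [Finset.prod_empty, Finset.sum_empty, ← C_1, rootMultiplicity_C]
  | insert j S hj ih =>
    rw [Finset.prod_insert hj, Finset.sum_insert hj, rootMultiplicity_mul
      (mul_ne_zero (pow_ne_zero _ (X_sub_C_ne_zero _))
        (Finset.prod_ne_zero_iff.2 fun i _ => pow_ne_zero _ (X_sub_C_ne_zero _))), ih,
      Pencil.rootMultiplicity_pow_X_sub_C]

theorem natDegree_prod_X_sub_C_pow {R : Type*} [CommRing R] [Nontrivial R] {ι : Type*} (S : Finset ι)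
    (a : ι → R) (m : ι → ℕ) : (∏ i ∈ S, (X - C (a i)) ^ m i).natDegree = ∑ i ∈ S, m i := by
  rw [natDegree_prod_of_monic _ _ fun i _ => (monic_X_sub_C _).pow _]
  refine Finset.sum_congr rfl fun i _ => ?_
  rw [(monic_X_sub_C (a i)).natDegree_pow, natDegree_X_sub_C, mul_one]

theorem sum_sub_one {n : ℕ} {e : Fin n → ℕ} {p d : ℕ} (he : Admissible p d e) :
    (∑ i, (e i - 1)) + 2 = 2 * d := by
  have h2 : (∑ i, e i) = (∑ i, (e i - 1)) + n := by
    calc (∑ i, e i) = ∑ i, ((e i - 1) + 1) := Finset.sum_congr rfl fun i _ => by have := (he.1 i).1; omega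
      _ = _ := by rw [Finset.sum_add_distrib]; simp
  have := he.2
  omega

theorem map_wronskian {R S : Type*} [CommRing R] [CommRing S] (f : R →+* S) (P Q : R[X]) :
    (wronskian P Q).map f = wronskian (P.map f) (Q.map f) := by
  simp [wronskian, derivative_map]

/-- The pencil spanned by `h` and its partner. -/
theorem special_pencil (p : ℕ) [Fact p.Prime] [CharP k p] [IsAlgClosed k] {n : ℕ} (a : Fin n → k)
    (ha : Function.Injective a) (e : Fin n → ℕ) (he : ∀ i, 2 ≤ e i ∧ e i < p) {h E : k[X]} {D l : ℕ}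
    (hh : h ≠ 0) (hE : E.natDegree = D) (hl : h.natDegree + l = D) (hl1 : 1 ≤ l)
    (hW : wronskian h E = ∏ i, (X - C (a i)) ^ (e i - 1))
    (hroot : ∀ c, h.IsRoot c →
      rootMultiplicity c (∏ i, (X - C (a i)) ^ (e i - 1)) + 1 = rootMultiplicity c h) :
    Submodule.span k {h, E} ∈ ramMaps D a e ∧ HasRamIdxInf D (Submodule.span k {h, E}) l := by
  classical
  have hWne : wronskian h E ≠ 0 := by
    rw [hW]; exact Finset.prod_ne_zero_iff.2 fun i _ => pow_ne_zero _ (X_sub_C_ne_zero _)
  have hE0 : E ≠ 0 := by rintro rfl; simp at hWne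
  have hnc : ∀ c, ¬ (h.IsRoot c ∧ E.IsRoot c) := by
    rintro c ⟨h1, h2⟩
    have hr : 0 < rootMultiplicity c h := (rootMultiplicity_pos hh).2 h1
    have hd := Pencil.pow_dvd_wronskian_of_root hr (pow_rootMultiplicity_dvd h c) h2
    rw [← le_rootMultiplicity_iff hWne, hW] at hd
    have := hroot c h1
    omega
  have hli : LinearIndependent k ![h, E] := by
    rw [LinearIndependent.pair_iff]
    intro x y hxy
    have h1 := congrArg (fun q => wronskian h q) hxy
    have h2 := congrArg (fun q => wronskian q E) hxy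
    simp only [wronskian, derivative_add, derivative_zero, smul_eq_C_mul, derivative_C_mul, zero_mul,
      mul_zero, sub_zero] at h1 h2
    have hy : C y * wronskian h E = 0 := by rw [← h1, wronskian]; ring
    have hx : C x * wronskian h E = 0 := by rw [← h2, wronskian]; ring
    simp only [mul_eq_zero, C_eq_zero, hWne, or_false] at hx hy
    exact ⟨hx, hy⟩
  have hdeg : ∀ x y : k, y ≠ 0 → (x • h + y • E).natDegree = D := by
    intro x y hy
    rw [natDegree_add_eq_right_of_natDegree_lt]
    · rw [natDegree_smul _ hy, hE]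
    · rw [natDegree_smul _ hy, hE]
      exact (natDegree_smul_le _ _).trans_lt (by omega)
  refine ⟨⟨⟨Submodule.span_le.2 ?_, ?_, ⟨E, Submodule.subset_span (by simp), hE⟩, fun c => ?_⟩,
    (Pencil.isSeparable_span_pair h E).2 hWne, fun i => ?_⟩, ?_⟩
  · rintro s (rfl | rfl)
    · exact Pencil.mem_of_natDegree_le (by omega)
    · exact Pencil.mem_of_natDegree_le (by omega)
  · rw [← Matrix.range_cons_cons_empty h E ![], finrank_span_eq_card hli]; simp
  · by_contra! hc
    exact hnc c ⟨hc h (Submodule.subset_span (by simp)), hc E (Submodule.subset_span (by simp))⟩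
  · have hord : ∀ s ∈ Submodule.span k {h, E}, s ≠ 0 → s.IsRoot (a i) → rootMultiplicity (a i) s = e i := by
      intro s hs hs0 hsr
      obtain ⟨x, y, rfl⟩ := Submodule.mem_span_pair.1 hs
      obtain ⟨t, lam, hlam, hta, hts⟩ : ∃ (t : k[X]) (lam : k), lam ≠ 0 ∧ ¬ t.IsRoot (a i) ∧
          wronskian t (x • h + y • E) = C lam * wronskian h E := by
        by_cases hha : h.IsRoot (a i)
        · have hx : x ≠ 0 := by
            rintro rfl
            have hy : y ≠ 0 := by rintro rfl; simp at hs0
            simp [IsRoot.def, hy] at hsr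
            exact hnc (a i) ⟨hha, hsr⟩
          refine ⟨E, -x, neg_ne_zero.2 hx, fun hEa => hnc _ ⟨hha, hEa⟩, ?_⟩
          simp only [wronskian, smul_eq_C_mul, derivative_add, derivative_C_mul, map_neg]; ring
        · have hy : y ≠ 0 := by
            rintro rfl
            have hx : x ≠ 0 := by rintro rfl; simp at hs0
            simp [IsRoot.def, hx] at hsr
            exact hha hsr
          refine ⟨h, y, hy, hha, ?_⟩
          simp only [wronskian, smul_eq_C_mul, derivative_add, derivative_C_mul]; ring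
      have hj1 : 0 < rootMultiplicity (a i) (x • h + y • E) := (rootMultiplicity_pos hs0).2 hsr
      have hm : rootMultiplicity (a i) (wronskian t (x • h + y • E)) = e i - 1 := by
        rw [hts, hW, rootMultiplicity_mul (mul_ne_zero (C_ne_zero.2 hlam) (hW ▸ hWne)), rootMultiplicity_C, zero_add,
          rootMultiplicity_prod_X_sub_C_pow, Finset.sum_eq_single i (fun j _ hj => if_neg (ha.ne hj))
            (fun h => absurd (Finset.mem_univ i) h), if_pos rfl]
      obtain ⟨u, hu, hua⟩ := exists_eq_pow_rootMultiplicity_mul_and_not_dvd _ hs0 (a i)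
      rw [dvd_iff_isRoot] at hua
      revert hm hj1 hu
      generalize rootMultiplicity (a i) (x • h + y • E) = j
      generalize x • h + y • E = s at hts
      intro hj1 hm hu
      subst hu
      obtain ⟨r, rfl⟩ := Nat.exists_eq_add_of_le' hj1
      let B := t * (C ((r + 1 : ℕ) : k) * u + (X - C (a i)) * derivative u) - derivative t * ((X - C (a i)) * u)
      have hB : wronskian t ((X - C (a i)) ^ (r + 1) * u) = (X - C (a i)) ^ r * B := by
        rw [wronskian, derivative_pow_mul]; simp only [B, pow_succ]; ring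
      have hne : wronskian t ((X - C (a i)) ^ (r + 1) * u) ≠ 0 := by
        rw [hts]; exact mul_ne_zero (C_ne_zero.2 hlam) hWne
      by_cases hp : ((r + 1 : ℕ) : k) = 0
      · exfalso
        have hdvd : (X - C (a i)) ^ (r + 1) ∣ wronskian t ((X - C (a i)) ^ (r + 1) * u) := by
          rw [hB, pow_succ]
          refine mul_dvd_mul_left _ (dvd_iff_isRoot.2 ?_)
          simp only [B, IsRoot.def, eval_sub, eval_mul, eval_add, eval_C, eval_X, hp, sub_self, zero_mul,
            mul_zero, add_zero]
        rw [← le_rootMultiplicity_iff hne, hm] at hdvd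
        have := Nat.le_of_dvd (Nat.succ_pos r) ((CharP.cast_eq_zero_iff k p _).1 hp)
        have := (he i).2
        omega
      · have hB0 : ¬ B.IsRoot (a i) := by
          simp only [B, IsRoot.def, eval_sub, eval_mul, eval_add, eval_C, eval_X, sub_self, zero_mul,
            mul_zero, add_zero, sub_zero]
          exact mul_ne_zero hta (mul_ne_zero hp hua)
        rw [hB] at hne hm
        rw [rootMultiplicity_mul hne, Pencil.rootMultiplicity_pow_X_sub_C, if_pos rfl,
          rootMultiplicity_eq_zero hB0, add_zero] at hm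
        have := (he i).1
        omega
    constructor
    · let s := E.eval (a i) • h + (-h.eval (a i)) • E
      have hs0 : s ≠ 0 := fun h0 => by
        obtain ⟨h1, h2⟩ := LinearIndependent.pair_iff.1 hli _ _ h0
        exact hnc (a i) ⟨neg_eq_zero.1 h2, h1⟩
      have hsr : s.IsRoot (a i) := by simp [s, IsRoot.def]; ring
      have hsm : s ∈ Submodule.span k {h, E} := Submodule.mem_span_pair.2 ⟨_, _, rfl⟩
      exact ⟨s, hsm, hs0, (hord s hsm hs0 hsr).ge⟩
    · intro s hs hs0
      by_cases hsr : s.IsRoot (a i)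
      · exact (hord s hs hs0 hsr).le
      · rw [rootMultiplicity_eq_zero hsr]; exact Nat.zero_le _
  · refine ⟨⟨h, Submodule.subset_span (by simp), hh, hl.le⟩, fun s hs hs0 => ?_⟩
    obtain ⟨x, y, rfl⟩ := Submodule.mem_span_pair.1 hs
    by_cases hy : y = 0
    · subst hy
      have hx : x ≠ 0 := by rintro rfl; simp at hs0
      rw [zero_smul, add_zero, natDegree_smul _ hx]
      exact hl.ge
    · rw [hdeg x y hy]; omega

variable {A : Type*} [CommRing A] [IsDomain A] {K : Type*} [Field K] [Algebra A K] [IsFractionRing A K]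

/-- Over `A` the Wronskian is a multiple of the ramification polynomial. -/
theorem wronskian_eq {p d n : ℕ} {e : Fin n → ℕ} (he : Admissible p d e) (P : Fin n → A)
    (hP : Function.Injective P) {F G : A[X]} (hF : F.natDegree ≤ d) (hG : G.natDegree ≤ d)
    (hgen : Submodule.span K {F.map (algebraMap A K), G.map (algebraMap A K)} ∈
      ramMaps d (fun i => algebraMap A K (P i)) e) :
    ∃ w : A, w ≠ 0 ∧ wronskian F G = C w * ∏ i, (X - C (P i)) ^ (e i - 1) := by
  classical
  obtain ⟨-, hsep, hram⟩ := hgen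
  let f := algebraMap A K
  have hf : Function.Injective f := IsFractionRing.injective A K
  let Pw : A[X] := ∏ i, (X - C (P i)) ^ (e i - 1)
  have hPm : Pw.Monic := monic_prod_of_monic _ _ fun i _ => (monic_X_sub_C _).pow _
  have hWK : wronskian (F.map f) (G.map f) ≠ 0 := (Pencil.isSeparable_span_pair _ _).1 hsep
  have hdvd : Pw.map f ∣ (wronskian F G).map f := by
    rw [map_wronskian]
    simp only [Pw, Polynomial.map_prod, Polynomial.map_pow, Polynomial.map_sub, map_X, map_C]
    refine Finset.prod_dvd_of_coprime (fun i _ j _ hij =>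
      (pairwise_coprime_X_sub_C (hf.comp hP) hij).pow) fun i _ => ?_
    obtain ⟨⟨s, hs, hs0, hse⟩, -⟩ := hram i
    have hdiv : (X - C (f (P i))) ^ e i ∣ s := (le_rootMultiplicity_iff hs0).1 hse
    obtain ⟨x, y, rfl⟩ := Submodule.mem_span_pair.1 hs
    have hG' := Pencil.pow_sub_one_dvd_wronskian (G.map f) hdiv
    have hF' := Pencil.pow_sub_one_dvd_wronskian (F.map f) hdiv
    by_cases hx : x = 0
    · have hy : y ≠ 0 := by rintro rfl; simp [hx] at hs0
      rw [show wronskian (x • F.map f + y • G.map f) (F.map f) = C (-y) * wronskian (F.map f) (G.map f) by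
        simp only [wronskian, smul_eq_C_mul, derivative_add, derivative_C_mul, map_neg]; ring,
        IsUnit.dvd_mul_left (isUnit_C.2 (neg_ne_zero.2 hy).isUnit)] at hF'
      exact hF'
    · rw [show wronskian (x • F.map f + y • G.map f) (G.map f) = C x * wronskian (F.map f) (G.map f) by
        simp only [wronskian, smul_eq_C_mul, derivative_add, derivative_C_mul]; ring,
        IsUnit.dvd_mul_left (isUnit_C.2 (Ne.isUnit hx))] at hG'
      exact hG'
  obtain ⟨q, hq⟩ := (map_dvd_map f hf hPm).1 hdvd
  have hW0 : wronskian F G ≠ 0 := fun h0 => hWK (by rw [← map_wronskian, h0, Polynomial.map_zero])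
  have hq0 : q ≠ 0 := fun h0 => hW0 (by rw [hq, h0, mul_zero])
  have hdeg : (wronskian F G).natDegree ≤ 2 * d - 2 := by
    rw [← natDegree_map_eq_of_injective hf, map_wronskian]
    exact Pencil.natDegree_wronskian_le (natDegree_map_le.trans hF) (natDegree_map_le.trans hG)
  rw [hq, hPm.natDegree_mul' hq0, natDegree_prod_X_sub_C_pow] at hdeg
  have hsum := sum_sub_one he
  have hqd : q.natDegree = 0 := by omega
  obtain ⟨w, rfl⟩ := natDegree_eq_zero.1 hqd
  exact ⟨w, fun h0 => hq0 (by rw [h0, map_zero]), by rw [hq, mul_comm]⟩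

omit [IsFractionRing A K] in
/-- A good member of the pencil. -/
theorem exists_good_member [IsLocalRing A] [IsAlgClosed (IsLocalRing.ResidueField A)] {t : A}
    (ht : IsLocalRing.residue A t = 0) (ht0 : t ≠ 0) {d n : ℕ} (P : Fin n → A) (F G : A[X])
    (hF : F.natDegree ≤ d) (hG : G.natDegree ≤ d)
    (hFbar : F.map (IsLocalRing.residue A) ≠ 0)
    (hpen : IsPencil d (Submodule.span K {F.map (algebraMap A K), G.map (algebraMap A K)})) :
    ∃ (β : A) (c₀ : IsLocalRing.ResidueField A), (G + C β * F).natDegree = d ∧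
      (∀ i, (G + C β * F).eval (P i) ≠ 0) ∧ (∀ i, c₀ ≠ IsLocalRing.residue A (P i)) ∧
      (F.map (IsLocalRing.residue A)).eval c₀ ≠ 0 ∧
      ((G + C β * F).map (IsLocalRing.residue A)).eval c₀ = 0 := by
  classical
  let res := IsLocalRing.residue A
  obtain ⟨c₀, hc₀⟩ := Infinite.exists_notMem_finset
    ((F.map res).roots.toFinset ∪ Finset.univ.image fun i => res (P i))
  simp only [Finset.mem_union, Multiset.mem_toFinset, Finset.mem_image, Finset.mem_univ,
    true_and, not_or, not_exists] at hc₀
  obtain ⟨hc1', hc2⟩ := hc₀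
  have hc1 : (F.map res).eval c₀ ≠ 0 := fun h => hc1' ((mem_roots hFbar).2 h)
  obtain ⟨β₀, hβ₀⟩ := IsLocalRing.residue_surjective (-(G.map res).eval c₀ / (F.map res).eval c₀)
  haveI : Infinite A := Infinite.of_surjective res IsLocalRing.residue_surjective
  have hline : ∀ u v : A, u ≠ 0 ∨ v ≠ 0 → {x : A | v + (β₀ + t * x) * u = 0}.Finite := by
    intro u v huv
    refine Set.Subsingleton.finite fun x hx y hy => ?_
    simp only [Set.mem_ofPred_eq] at hx hy
    have hu : u ≠ 0 := by
      rintro rfl
      simp only [mul_zero, add_zero] at hx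
      exact huv.elim (fun h => h rfl) (fun h => h hx)
    exact mul_left_cancel₀ (mul_ne_zero ht0 hu) (by linear_combination hx - hy)
  obtain ⟨-, -, ⟨s, hs, hsd⟩, hbp⟩ := hpen
  obtain ⟨x, y, rfl⟩ := Submodule.mem_span_pair.1 hs
  have hcoef : d ≠ 0 → F.coeff d ≠ 0 ∨ G.coeff d ≠ 0 := by
    intro hd
    by_contra! hc
    have hne : x • F.map (algebraMap A K) + y • G.map (algebraMap A K) ≠ 0 := fun h0 => hd (by simpa [h0] using hsd.symm)
    have := leadingCoeff_ne_zero.2 hne
    simp [leadingCoeff, hsd, coeff_map, hc.1, hc.2] at this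
  have hval : ∀ i, F.eval (P i) ≠ 0 ∨ G.eval (P i) ≠ 0 := by
    intro i
    by_contra! hc
    obtain ⟨s, hs, hs0⟩ := hbp (algebraMap A K (P i))
    obtain ⟨x, y, rfl⟩ := Submodule.mem_span_pair.1 hs
    simp [eval_map_algebraMap, aeval_algebraMap_apply, hc.1, hc.2] at hs0
  have hbad : ((⋃ i, {x : A | G.eval (P i) + (β₀ + t * x) * F.eval (P i) = 0}) ∪
      {x : A | d ≠ 0 ∧ G.coeff d + (β₀ + t * x) * F.coeff d = 0}).Finite := by
    refine (Set.finite_iUnion fun i => hline _ _ (hval i)).union ?_
    by_cases hd : d = 0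
    · simp [hd]
    · exact (hline _ _ (hcoef hd)).subset fun x hx => hx.2
  obtain ⟨x, hx⟩ := hbad.exists_notMem
  simp only [Set.mem_union, Set.mem_iUnion, Set.mem_ofPred_eq, not_or, not_exists, not_and] at hx
  refine ⟨β₀ + t * x, c₀, ?_, fun i => by simpa using hx.1 i, fun i => Ne.symm (hc2 i), hc1, ?_⟩
  · have hle : (G + C (β₀ + t * x) * F).natDegree ≤ d :=
      natDegree_add_le_of_degree_le hG ((natDegree_C_mul_le _ _).trans hF)
    rcases Nat.eq_zero_or_pos d with hd | hd
    · omega
    · refine le_antisymm hle (le_natDegree_of_ne_zero ?_)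
      rw [coeff_add, coeff_C_mul]
      exact hx.2 hd.ne'
  · have h1 : res (β₀ + t * x) = -(G.map res).eval c₀ / (F.map res).eval c₀ := by
      rw [map_add, map_mul, show res t = 0 from ht, zero_mul, add_zero]; exact hβ₀
    rw [Polynomial.map_add, Polynomial.map_mul, map_C, eval_add, eval_mul, eval_C, h1,
      div_mul_cancel₀ _ hc1, add_neg_cancel]

theorem mod_or {Ω : Type*} [Field Ω] (p : ℕ) [CharP Ω p] {q e : ℕ} (he : e < p)
    (h : (q : Ω) * ((q : Ω) - e) = 0) : q % p = 0 ∨ q % p = e := by
  rcases mul_eq_zero.1 h with h | h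
  · exact Or.inl (Nat.mod_eq_zero_of_dvd ((CharP.cast_eq_zero_iff Ω p q).1 h) |>.trans rfl)
  · refine Or.inr ?_
    have h1 : q ≡ e [MOD p] := (CharP.natCast_eq_natCast Ω p).1 (sub_eq_zero.1 h)
    exact Eq.trans h1 (Nat.mod_eq_of_lt he)

/-- Congruences for the special member. -/
theorem special_member_congr [IsLocalRing A] (p : ℕ) [Fact p.Prime] [CharP A p] {d n : ℕ} {e : Fin n → ℕ}
    (he : Admissible p d e) (hlt : ∀ i, e i < p) (P : Fin n → A)
    (hdist : Function.Injective fun i => IsLocalRing.residue A (P i)) (F L : A[X])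
    (hLbar : L.map (IsLocalRing.residue A) ≠ 0) (hd : L.natDegree = d) {w : A} (hw : w ≠ 0)
    (hW : wronskian F L = C w * ∏ i, (X - C (P i)) ^ (e i - 1)) (hLP : ∀ i, L.eval (P i) ≠ 0) :
    (∀ i, (L.map (IsLocalRing.residue A)).rootMultiplicity (IsLocalRing.residue A (P i)) % p = 0 ∨
      (L.map (IsLocalRing.residue A)).rootMultiplicity (IsLocalRing.residue A (P i)) % p = e i) ∧
    (∀ c, (∀ i, c ≠ IsLocalRing.residue A (P i)) →
      (L.map (IsLocalRing.residue A)).rootMultiplicity c % p ≤ 1) ∧
    (d - (L.map (IsLocalRing.residue A)).natDegree) % p ≤ 1 := by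
  let Ω := AlgebraicClosure (FractionRing A)
  let φ : A →+* Ω := (algebraMap (FractionRing A) Ω).comp (algebraMap A (FractionRing A))
  have hφ : Function.Injective φ := (algebraMap (FractionRing A) Ω).injective.comp (IsFractionRing.injective A _)
  haveI : CharP Ω p := charP_of_injective_ringHom hφ p
  obtain ⟨O, hO, hloc⟩ := IsLocalRing.exists_factor_valuationRing φ
  let ψ : A →+* O := φ.codRestrict O.toSubring hO
  haveI : IsLocalHom ψ := hloc
  have hsub : O.subtype.comp ψ = φ := rfl
  let ι := IsLocalRing.ResidueField.map ψ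
  have hmap : (L.map ψ).map (IsLocalRing.residue O) = (L.map (IsLocalRing.residue A)).map ι := by
    rw [map_map, map_map, IsLocalRing.ResidueField.map_comp_residue]
  have hres : ∀ x : A, IsLocalRing.residue O (ψ x) = ι (IsLocalRing.residue A x) := fun x => rfl
  obtain ⟨c1, c2, c3⟩ := mult_congr p O (F.map ψ) (L.map ψ)
    (by rw [hmap]; exact (Polynomial.map_ne_zero_iff ι.injective).2 hLbar)
    (d := d) (by rw [map_map, hsub, natDegree_map_eq_of_injective hφ, hd])
    (w := φ w) ((map_ne_zero_iff φ hφ).2 hw) (fun i => ψ (P i)) (fun i => e i - 1) (sum_sub_one he)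
    (fun i j hij => hdist (ι.injective (by simpa only [hres] using hij)))
    (by
      rw [map_map, map_map, hsub, ← map_wronskian, hW]
      simp only [Polynomial.map_mul, Polynomial.map_prod, Polynomial.map_pow, Polynomial.map_sub, map_X, map_C]
      rfl)
    (fun i => by
      rw [map_map, hsub, show ((ψ (P i) : O) : Ω) = φ (P i) from rfl, eval_map, eval₂_hom]
      exact (map_ne_zero_iff φ hφ).2 (hLP i))
  rw [hmap, natDegree_map_eq_of_injective ι.injective] at c3
  simp only [hmap] at c1 c2
  simp only [hres, ← eq_rootMultiplicity_map ι.injective] at c1 c2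
  have hp1 : 1 < p := (Fact.out : p.Prime).one_lt
  refine ⟨fun i => mod_or (Ω := Ω) p (hlt i) ?_, fun c hc => ?_, ?_⟩
  · have h := c1 i
    have h2 := (he.1 i).1
    rw [Nat.cast_sub (by omega : 1 ≤ e i), Nat.cast_one] at h
    linear_combination h
  · have h := c2 (ι c) fun i h => hc i (ι.injective h)
    rw [← eq_rootMultiplicity_map ι.injective] at h
    rw [← Nat.cast_one (R := Ω)] at h
    rcases mod_or (Ω := Ω) p hp1 h with h | h <;> omega
  · rw [← Nat.cast_one (R := Ω)] at c3
    rcases mod_or (Ω := Ω) p hp1 c3 with h | h <;> omega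

omit [IsFractionRing A K] in
/-- The vanishing of the `p - 1`-st derivative. -/
theorem exact_form (p : ℕ) [Fact p.Prime] [CharP A p] {F L Pw : A[X]} {w : A} (hw : w ≠ 0)
    (hW : wronskian F L = C w * Pw) : derivative^[p - 1] (Pw * L ^ (p - 2)) = 0 := by
  obtain ⟨j, hj⟩ : ∃ j, p = j + 2 := ⟨p - 2, by have := (Fact.out : p.Prime).two_le; omega⟩
  have hc : ((j + 1 : ℕ) : A[X]) = -1 := by
    have h : ((p : ℕ) : A[X]) = 0 := by rw [← C_eq_natCast, CharP.cast_eq_zero, map_zero]
    rw [hj] at h
    push_cast at h ⊢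
    linear_combination h
  have h1 : C w * (Pw * L ^ j) = derivative (-(L ^ (j + 1) * F)) := by
    rw [← mul_assoc, ← hW, derivative_neg, derivative_mul, derivative_pow, Nat.add_sub_cancel, C_eq_natCast, hc,
      wronskian, pow_succ]
    ring
  have h2 : derivative^[j + 1] (C w * (Pw * L ^ j)) = 0 := by
    rw [h1, ← Function.iterate_succ_apply, show (j + 1).succ = p by omega]
    exact iterate_derivative_prime p _
  rw [iterate_derivative_C_mul, mul_eq_zero, C_eq_zero, or_iff_right hw] at h2
  rw [show p - 1 = j + 1 by omega, show p - 2 = j by omega]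
  exact h2

/-- The decomposition `L = lc · h · (Q expanded)`. -/
theorem split_mod [IsAlgClosed k] (p : ℕ) [Fact p.Prime] [CharP k p] {L : k[X]} (hL : L ≠ 0) :
    ∃ h Q : k[X], h ≠ 0 ∧ Q ≠ 0 ∧ L = C L.leadingCoeff * (h * expand k p Q) ∧
      (∀ c, rootMultiplicity c h = rootMultiplicity c L % p) ∧
      L.natDegree = h.natDegree + p * Q.natDegree ∧
      ∀ c, rootMultiplicity c L / p ≤ Q.natDegree := by
  classical
  let S := L.roots.toFinset
  let h := ∏ c ∈ S, (X - C c) ^ (rootMultiplicity c L % p)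
  let Q := ∏ c ∈ S, (X - C (c ^ p)) ^ (rootMultiplicity c L / p)
  have hh : h ≠ 0 := Finset.prod_ne_zero_iff.2 fun i _ => pow_ne_zero _ (X_sub_C_ne_zero _)
  have hQ : Q ≠ 0 := Finset.prod_ne_zero_iff.2 fun i _ => pow_ne_zero _ (X_sub_C_ne_zero _)
  have hexp : L = C L.leadingCoeff * (h * expand k p Q) := by
    conv_lhs => rw [(IsAlgClosed.splits L).eq_prod_roots, Finset.prod_multiset_map_count]
    congr 1
    simp only [h, Q, map_prod, map_pow, map_sub, expand_X, expand_C, ← Finset.prod_mul_distrib, ← sub_pow_char,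
      ← pow_mul, ← pow_add, Nat.mod_add_div, count_roots]
    rfl
  have hmem : ∀ c, c ∉ S → rootMultiplicity c L = 0 := fun c hc =>
    rootMultiplicity_eq_zero fun h => hc (Multiset.mem_toFinset.2 ((mem_roots hL).2 h))
  refine ⟨h, Q, hh, hQ, hexp, fun c => ?_, ?_, fun c => ?_⟩
  · rw [rootMultiplicity_prod_X_sub_C_pow, Finset.sum_ite_eq']
    by_cases hc : c ∈ S
    · rw [if_pos hc]
    · rw [if_neg hc, hmem c hc, Nat.zero_mod]
  · conv_lhs => rw [hexp]
    rw [natDegree_C_mul (leadingCoeff_ne_zero.2 hL), natDegree_mul hh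
      ((expand_ne_zero (Fact.out : p.Prime).pos).2 hQ), natDegree_expand, mul_comm p]
  · rw [natDegree_prod_X_sub_C_pow]
    by_cases hc : c ∈ S
    · exact Finset.single_le_sum (f := fun c => rootMultiplicity c L / p) (fun i _ => Nat.zero_le _) hc
    · rw [hmem c hc, Nat.zero_div]; exact Nat.zero_le _

end Groth.Misc6.PencilLimit
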